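import Mathlib

/-!
Adic completeness: change of ideal, finite modules, quotients.
-/

namespace Groth.Agent.AdicLib

open Submodule

variable {R : Type*} [CommRing R] {M : Type*} [AddCommGroup M] [Module R M]

lemma smul_top_mono {I J : Ideal R} (h : I ≤ J) :
    I • (⊤ : Submodule R M) ≤ J • (⊤ : Submodule R M) :=
  Submodule.smul_mono h le_rfl

lemma pow_mul_le {I J : Ideal R} {c : ℕ} (hI : I ^ c ≤ J) (n : ℕ) : I ^ (c * n) ≤ J ^ n := by
  rw [pow_mul]; exact Ideal.pow_right_mono hI n

lemma isHausdorff_of_pow_le {I J : Ideal R} {d : ℕ} (hJ : J ^ d ≤ I) [IsHausdorff I M] :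
    IsHausdorff J M :=
  ⟨fun x hx => IsHausdorff.haus ‹IsHausdorff I M› x fun n =>
    (hx (d * n)).mono (smul_top_mono (pow_mul_le hJ n))⟩

lemma isPrecomplete_of_pow_le {I J : Ideal R} {c d : ℕ} (hd : 0 < d) (hc : 0 < c) (hI : I ^ c ≤ J)
    (hJ : J ^ d ≤ I) [IsPrecomplete I M] : IsPrecomplete J M := by
  refine ⟨fun f hf => ?_⟩
  obtain ⟨L, hL⟩ := IsPrecomplete.prec ‹IsPrecomplete I M› (f := fun n => f (d * n))
    (fun {m n} hmn => (hf (Nat.mul_le_mul_left d hmn)).mono (smul_top_mono (pow_mul_le hJ m)))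
  refine ⟨L, fun n => ?_⟩
  have h1 : n ≤ d * (c * n) :=
    (Nat.le_mul_of_pos_left n hc).trans (Nat.le_mul_of_pos_left _ hd)
  exact (hf h1).trans ((hL (c * n)).mono (smul_top_mono (pow_mul_le hI n)))

theorem iff_of_pow_le {I J : Ideal R} {c d : ℕ} (hc : 0 < c) (hd : 0 < d) (hI : I ^ c ≤ J)
    (hJ : J ^ d ≤ I) : IsAdicComplete I M ↔ IsAdicComplete J M := by
  constructor <;> intro h
  · exact { toIsHausdorff := isHausdorff_of_pow_le hJ
            toIsPrecomplete := isPrecomplete_of_pow_le hd hc hI hJ }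
  · exact { toIsHausdorff := isHausdorff_of_pow_le hI
            toIsPrecomplete := isPrecomplete_of_pow_le hc hd hJ hI }

/-- A surjective image of a precomplete module is precomplete. -/
theorem isPrecomplete_of_surjective {N : Type*} [AddCommGroup N] [Module R N] (I : Ideal R)
    (g : M →ₗ[R] N) (hg : Function.Surjective g) [IsPrecomplete I M] : IsPrecomplete I N := by
  rw [← AdicCompletion.of_surjective_iff]
  intro y
  obtain ⟨x, rfl⟩ := AdicCompletion.map_surjective I hg y
  obtain ⟨a, rfl⟩ := AdicCompletion.of_surjective I M x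
  exact ⟨g a, (AdicCompletion.map_of I g a).symm⟩

/-- A finite module over a complete Noetherian ring is complete. -/
theorem isAdicComplete_of_finite (I : Ideal R) [IsNoetherianRing R] [IsAdicComplete I R]
    (N : Type*) [AddCommGroup N] [Module R N] [Module.Finite R N] : IsAdicComplete I N := by
  obtain ⟨n, f, hf⟩ := Module.Finite.exists_fin' R N
  have hF : IsPrecomplete I (Fin n → R) := by
    refine ⟨fun g hg => ?_⟩
    choose L hL using fun i => IsPrecomplete.prec (inferInstance : IsPrecomplete I R)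
      (f := fun m => g m i) (fun {m k} hmk => by
        have := (hg hmk).map (LinearMap.proj i : (Fin n → R) →ₗ[R] R)
        exact this.mono (by rw [Submodule.map_smul'']; exact Submodule.smul_mono le_rfl le_top))
    refine ⟨L, fun m => ?_⟩
    rw [SModEq.sub_mem, ← Finset.univ_sum_single (g m - L)]
    refine Submodule.sum_mem _ fun i _ => ?_
    have h1 : (g m - L) i ∈ I ^ m := by
      simpa [SModEq.sub_mem] using hL i m
    rw [show (Pi.single i ((g m - L) i) : Fin n → R) = ((g m - L) i) • Pi.single i 1 by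
      rw [← Pi.single_smul', smul_eq_mul, mul_one]]
    exact Submodule.smul_mem_smul h1 mem_top
  have : IsHausdorff I N := IsHausdorff.of_le_jacobson I N (IsAdicComplete.le_jacobson_bot I)
  have : IsPrecomplete I N := isPrecomplete_of_surjective I f hf
  exact { }

/-- A complete module has a complete quotient exactly by closed submodules. -/
theorem quotient_iff (I : Ideal R) [IsAdicComplete I M] (K : Submodule R M) :
    IsAdicComplete I (M ⧸ K) ↔ K = ⨅ n : ℕ, K ⊔ I ^ n • (⊤ : Submodule R M) := by
  have hP : IsPrecomplete I (M ⧸ K) := isPrecomplete_of_surjective I K.mkQ K.mkQ_surjective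
  have hmem : ∀ (n : ℕ) (x : M),
      K.mkQ x ∈ I ^ n • (⊤ : Submodule R (M ⧸ K)) ↔ x ∈ K ⊔ I ^ n • (⊤ : Submodule R M) := by
    intro n x
    rw [← Submodule.range_mkQ K, ← Submodule.map_top, ← Submodule.map_smul'', ← Submodule.mem_comap,
      Submodule.comap_map_mkQ]
  constructor
  · intro h
    refine le_antisymm (le_iInf fun n => le_sup_left) fun x hx => ?_
    rw [← K.ker_mkQ, LinearMap.mem_ker]
    refine IsHausdorff.haus h.toIsHausdorff _ fun n => ?_
    rw [SModEq.sub_mem, sub_zero]
    exact (hmem n x).2 (Submodule.mem_iInf _ |>.1 hx n)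
  · intro h
    have : IsHausdorff I (M ⧸ K) := by
      refine ⟨fun y hy => ?_⟩
      obtain ⟨x, rfl⟩ := K.mkQ_surjective y
      rw [← LinearMap.mem_ker, K.ker_mkQ, h, Submodule.mem_iInf]
      intro n
      have := hy n
      rw [SModEq.sub_mem, sub_zero] at this
      exact (hmem n x).1 this
    exact { }

end Groth.Agent.AdicLib
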